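import Mathlib.AlgebraicGeometry.IdealSheaf.Functorial
import Mathlib.AlgebraicGeometry.Morphisms.Immersion

/-!
# Factoring through locally closed subschemes cut out by two ideal sheaves (helper71)

For ideal sheaves `I₀`, `I₁` on `X`, the locally closed subscheme `V(I₀) ∩ (X ∖ V(I₁))` and its
functor of points: `f : T ⟶ X` factors through it iff `I₁.comap f = ⊤` and `I₀.comap f = ⊥`.
-/

set_option autoImplicit false
universe u

namespace Groth.Agent.H71.FittStrat

open AlgebraicGeometry CategoryTheory Limits TopologicalSpace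

variable {X T : Scheme.{u}}

theorem comap_subschemeι (J : X.IdealSheafData) : J.comap J.subschemeι = ⊥ := by
  rw [← le_bot_iff, ← Scheme.IdealSheafData.le_map_iff_comap_le]
  have h : (J.subschemeι).ker ≤
      ((⊥ : J.subscheme.IdealSheafData).subschemeι ≫ J.subschemeι).ker :=
    Scheme.Hom.le_ker_comp _ _
  rwa [J.ker_subschemeι] at h

theorem factors_closed_iff (J : X.IdealSheafData) (f : T ⟶ X) :
    (∃ g : T ⟶ J.subscheme, g ≫ J.subschemeι = f) ↔ J.comap f = ⊥ := by
  constructor
  · rintro ⟨g, rfl⟩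
    rw [Scheme.IdealSheafData.comap_comp, comap_subschemeι, Scheme.IdealSheafData.comap_bot]
  · intro h
    have h1 : J ≤ (⊥ : T.IdealSheafData).map f :=
      Scheme.IdealSheafData.le_map_iff_comap_le.mpr (h ▸ le_rfl)
    have h2 : (⊥ : T.IdealSheafData).map f = f.ker := by
      unfold Scheme.IdealSheafData.map
      exact Scheme.Hom.ker_comp_of_isIso _ _
    refine ⟨IsClosedImmersion.lift J.subschemeι f ?_, IsClosedImmersion.lift_fac _ _ _⟩
    rw [J.ker_subschemeι, ← h2]
    exact h1

theorem factors_open_iff (U : X.Opens) (f : T ⟶ X) :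
    (∃ g : T ⟶ (U : Scheme.{u}), g ≫ U.ι = f) ↔ Set.range f ⊆ (U : Set X) := by
  constructor
  · rintro ⟨g, rfl⟩
    rintro _ ⟨t, rfl⟩
    exact (g t).2
  · intro h
    refine ⟨IsOpenImmersion.lift U.ι f ?_, IsOpenImmersion.lift_fac _ _ _⟩
    rw [Scheme.Opens.range_ι]
    exact h

theorem range_subset_compl_support_iff (I : X.IdealSheafData) (f : T ⟶ X) :
    Set.range f ⊆ ((I.support : Set X)ᶜ) ↔ I.comap f = ⊤ := by
  rw [← Scheme.IdealSheafData.support_eq_bot_iff, Scheme.IdealSheafData.support_comap]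
  constructor
  · intro h
    apply TopologicalSpace.Closeds.ext
    ext t
    simp only [TopologicalSpace.Closeds.coe_preimage, Set.mem_preimage, SetLike.mem_coe,
      TopologicalSpace.Closeds.coe_bot, Set.mem_empty_iff_false, iff_false]
    exact fun ht => h ⟨t, rfl⟩ ht
  · intro h
    rintro _ ⟨t, rfl⟩ ht
    have : t ∈ ((I.support.preimage f.continuous : Closeds T) : Set T) := ht
    rw [h] at this
    exact this

/-- the open complement of the support of an ideal sheaf -/
def complOpen (I : X.IdealSheafData) : X.Opens :=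
  ⟨(I.support : Set X)ᶜ, I.support.isClosed.isOpen_compl⟩

/-- the locally closed subscheme `V(I₀) ∩ (X ∖ V(I₁))` -/
noncomputable abbrev stratum (I₀ I₁ : X.IdealSheafData) : Scheme.{u} :=
  (I₀.comap (complOpen I₁).ι).subscheme

/-- the inclusion of the locally closed subscheme `V(I₀) ∩ (X ∖ V(I₁))` -/
noncomputable abbrev stratumι (I₀ I₁ : X.IdealSheafData) : stratum I₀ I₁ ⟶ X :=
  (I₀.comap (complOpen I₁).ι).subschemeι ≫ (complOpen I₁).ι

theorem isImmersion_stratumι (I₀ I₁ : X.IdealSheafData) : IsImmersion (stratumι I₀ I₁) :=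
  inferInstance

theorem factors_stratum_iff (I₀ I₁ : X.IdealSheafData) (f : T ⟶ X) :
    (∃ g : T ⟶ stratum I₀ I₁, g ≫ stratumι I₀ I₁ = f) ↔ I₁.comap f = ⊤ ∧ I₀.comap f = ⊥ := by
  constructor
  · rintro ⟨g, rfl⟩
    constructor
    · rw [← range_subset_compl_support_iff]
      rintro _ ⟨t, rfl⟩
      exact ((g ≫ (I₀.comap (complOpen I₁).ι).subschemeι) t).2
    · rw [Scheme.IdealSheafData.comap_comp, Scheme.IdealSheafData.comap_comp, comap_subschemeι,
        Scheme.IdealSheafData.comap_bot]
  · rintro ⟨h1, h0⟩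
    rw [← range_subset_compl_support_iff] at h1
    obtain ⟨f', rfl⟩ := (factors_open_iff (complOpen I₁) f).mpr h1
    rw [Scheme.IdealSheafData.comap_comp] at h0
    obtain ⟨g, rfl⟩ := (factors_closed_iff (I₀.comap (complOpen I₁).ι) f').mpr h0
    exact ⟨g, (Category.assoc _ _ _).symm⟩

/-- if `I₁ = ⊤` the stratum is a closed subscheme -/
theorem isClosedImmersion_stratumι (I₀ I₁ : X.IdealSheafData) (h : I₁ = ⊤) :
    IsClosedImmersion (stratumι I₀ I₁) := by
  have hU : complOpen I₁ = ⊤ := by
    apply TopologicalSpace.Opens.ext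
    change (I₁.support : Set X)ᶜ = Set.univ
    rw [h, Scheme.IdealSheafData.support_top]
    simp
  have key : ∀ (U : X.Opens), U = ⊤ → IsIso U.ι := by
    rintro U rfl
    exact inferInstanceAs (IsIso X.topIso.hom)
  haveI : IsIso (complOpen I₁).ι := key _ hU
  infer_instance

end Groth.Agent.H71.FittStrat
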