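import Groth.Agent.H71.FittStrat.Factor
import Groth.Agent.H44.FittComap
import Groth.Agent.H44.PullbackAffine
import Groth.Agent.S8875
import Groth.Agent.S8874

/-!
# The stratum where a finite type quasi-coherent module is locally free of rank `r` (helper71)
-/

set_option autoImplicit false
universe u

namespace Groth.Agent.H71.FittStrat

open AlgebraicGeometry CategoryTheory Limits TopologicalSpace

variable {X : Scheme.{u}} (F : X.Modules) [F.IsQuasicoherent]
  [SheafOfModules.IsFiniteType (R := X.ringCatSheaf) F]

theorem sheafIdeal_mono {k k' : ℕ} (h : k ≤ k') : Fitt.sheafIdeal F k ≤ Fitt.sheafIdeal F k' := by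
  intro U
  rw [Groth.Agent.H44.sheafIdeal_ideal, Groth.Agent.H44.sheafIdeal_ideal]
  haveI : Module.Finite Γ(X, U.1) Γ(F, U.1) := Groth.Agent.H44.finite_sections_of_isFiniteType F U.2
  exact Groth.Agent.Lead.fitt_ideal_antitone h

/-- the ideal sheaf cutting out the locus where the rank is at least `r` -/
noncomputable def lowerIdeal (r : ℕ) : X.IdealSheafData :=
  if r = 0 then ⊥ else Fitt.sheafIdeal F (r - 1)

theorem isFinLocFreeOfRank_pullback_iff (r : ℕ) {T : Scheme.{u}} (f : T ⟶ X) :
    FlatMod.IsFinLocFreeOfRank r ((Scheme.Modules.pullback f).obj F) ↔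
      (Fitt.sheafIdeal F r).comap f = ⊤ ∧ (lowerIdeal F r).comap f = ⊥ := by
  haveI : ((Scheme.Modules.pullback f).obj F).IsQuasicoherent := inferInstance
  haveI : SheafOfModules.IsFiniteType (R := T.ringCatSheaf) ((Scheme.Modules.pullback f).obj F) :=
    inferInstance
  rw [Groth.Agent.S8875.result T ((Scheme.Modules.pullback f).obj F) inferInstance inferInstance r]
  simp only [← Groth.Agent.H44.fitt_sheafIdeal_comap f F]
  constructor
  · rintro ⟨h1, h2⟩
    refine ⟨h2 r le_rfl, ?_⟩
    unfold lowerIdeal
    split_ifs with hr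
    · exact Scheme.IdealSheafData.comap_bot f
    · exact h1 (r - 1) (by omega)
  · rintro ⟨h1, h2⟩
    constructor
    · intro k hk
      have hr : r ≠ 0 := by omega
      unfold lowerIdeal at h2
      rw [if_neg hr] at h2
      rw [← le_bot_iff, ← h2]
      exact Scheme.IdealSheafData.comap_mono f (sheafIdeal_mono F (by omega))
    · intro k hk
      rw [← top_le_iff, ← h1]
      exact Scheme.IdealSheafData.comap_mono f (sheafIdeal_mono F hk)

/-- the universal property of the rank `r` stratum -/
theorem factors_rankStratum_iff (r : ℕ) {T : Scheme.{u}} (f : T ⟶ X) :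
    (∃ g : T ⟶ stratum (lowerIdeal F r) (Fitt.sheafIdeal F r),
        g ≫ stratumι (lowerIdeal F r) (Fitt.sheafIdeal F r) = f) ↔
      FlatMod.IsFinLocFreeOfRank r ((Scheme.Modules.pullback f).obj F) := by
  rw [factors_stratum_iff, isFinLocFreeOfRank_pullback_iff]

end Groth.Agent.H71.FittStrat
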